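import Groth.Agent.BlowPerfLib.Koszul
import Groth.Agent.BlowUpLib.RegSmooth

/-!
# The chart of a blow-up in a Koszul exact sequence inside affine space
-/

set_option autoImplicit false
set_option backward.isDefEq.respectTransparency false
set_option backward.isDefEq.respectTransparency.types false
set_option linter.style.haveILetI false

universe u

open KoszDetLib MvPolynomial BlowUpLib

namespace BlowProjLib

variable {A : Type u} [CommRing A]

theorem eq_chartVar {r : ℕ} (f : Fin r → A) (i j : Fin r)
    {v : BlowUp.affineAlgebra A (Ideal.span (Set.range f)) (f i)}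
    (hv : v * algebraMap A _ (f i) = algebraMap A _ (f j)) : v = chartVar f i j := by
  refine Subtype.ext ((IsLocalization.Away.algebraMap_isUnit (S := Localization.Away (f i)) (f i)).mul_right_cancel ?_)
  exact congrArg Subtype.val (hv.trans (chartVar_mul f i j).symm)

theorem presentation_first {n : ℕ} (f : Fin (n + 1) → A) (hf : IsExactK f) (J : Ideal A)
    (hJ : J = Ideal.span (Set.range f)) (x : A) (hx : x = f 0) (v : Fin n → BlowUp.affineAlgebra A J x)
    (hv : ∀ m, v m * algebraMap A _ x = algebraMap A _ (f m.succ)) :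
    Function.Surjective (aeval (R := A) v) ∧
      RingHom.ker (aeval (R := A) v).toRingHom = Ideal.span (Set.range (BlowPerfLib.g f)) := by
  subst hJ hx
  obtain rfl : v = fun m => chartVar f 0 m.succ := funext fun m => eq_chartVar f 0 m.succ (hv m)
  let C' := BlowUp.affineAlgebra A (Ideal.span (Set.range f)) (f 0)
  refine ⟨fun y => ?_, le_antisymm (fun h hh => ?_) (Ideal.span_le.mpr ?_)⟩
  · obtain ⟨p, rfl⟩ := BlowUpLib.aeval_chartVar_surjective f 0 y
    refine ⟨rename (fun j : {j : Fin (n + 1) // j ≠ 0} => j.1.pred j.2) p, ?_⟩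
    rw [aeval_rename]
    congr 1
    exact congrArg (fun v => aeval (R := A) v) (funext fun j =>
      congrArg (chartVar f 0) (Fin.succ_pred j.1 j.2))
  · refine BlowPerfLib.mem_span_of_eval_eq_zero f (Localization.Away (f 0)) hf h ?_
    have h2 : C'.val (aeval (fun m => chartVar f 0 m.succ) h) = 0 := by
      rw [show aeval (R := A) (fun m => chartVar f 0 m.succ) h = 0 from hh, map_zero]
    rw [← AlgHom.comp_apply, MvPolynomial.comp_aeval] at h2
    have e : (fun j : Fin n => C'.val (chartVar f 0 j.succ)) = BlowPerfLib.pt f (Localization.Away (f 0)) := by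
      funext j
      apply (IsLocalization.Away.algebraMap_isUnit (S := Localization.Away (f 0)) (f 0)).mul_right_cancel
      refine Eq.trans (IsLocalization.mk'_spec (Localization.Away (f 0)) (f j.succ) ⟨f 0, Submonoid.mem_powers (f 0)⟩) ?_
      rw [BlowPerfLib.pt, mul_right_comm, mul_comm (IsLocalization.Away.invSelf (f 0)),
        IsLocalization.Away.mul_invSelf, one_mul]
    rw [e] at h2
    exact h2
  · rintro _ ⟨j, rfl⟩
    show aeval _ (BlowPerfLib.g f j) = 0
    rw [BlowPerfLib.g, map_sub, map_mul, aeval_C, aeval_C, aeval_X, mul_comm, chartVar_mul, sub_self]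

/-- The `k`-th chart as a closed subscheme of affine space, cut out by a Koszul exact sequence. -/
theorem exists_presentation {n : ℕ} (a : Fin (n + 1) → A) (ha : IsExactK a) (k : Fin (n + 1)) :
    ∃ (φ : MvPolynomial (ULift.{u} (Fin n)) A →ₐ[A] BlowUp.affineAlgebra A (Ideal.span (Set.range a)) (a k))
      (g : Fin n → MvPolynomial (ULift.{u} (Fin n)) A), Function.Surjective φ ∧
        (∀ m : Fin n, φ (X ⟨m⟩) = chartVar a k (k.succAbove m)) ∧
        RingHom.ker φ.toRingHom = Ideal.span (Set.range g) ∧ IsExactK g := by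
  let σ : Fin (n + 1) ≃ Fin (n + 1) := (finSuccEquiv n).trans (finSuccEquiv' k).symm
  have hσ0 : σ 0 = k := by simp [σ]
  have hσs : ∀ m : Fin n, σ m.succ = k.succAbove m := fun m => by simp [σ]
  have hr : Set.range (a ∘ σ) = Set.range a := by rw [Set.range_comp, Equiv.range_eq_univ, Set.image_univ]
  let v : Fin n → BlowUp.affineAlgebra A (Ideal.span (Set.range a)) (a k) := fun m => chartVar a k (k.succAbove m)
  have hσ : IsExactK (a ∘ σ) := KRLib.isExactK_comp_equiv ha σ
  obtain ⟨hsurj, hker⟩ := presentation_first (a ∘ σ) hσ (Ideal.span (Set.range a)) (by rw [hr]) (a k)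
    (by rw [Function.comp_apply, hσ0]) v (fun m => by rw [Function.comp_apply, hσs]; exact chartVar_mul a k _)
  let τ : MvPolynomial (Fin n) A ≃ₐ[A] MvPolynomial (ULift.{u} (Fin n)) A := renameEquiv A Equiv.ulift.symm
  refine ⟨(aeval v).comp τ.symm.toAlgHom, fun m => τ (BlowPerfLib.g (a ∘ σ) m),
    hsurj.comp τ.symm.surjective, fun m => ?_, ?_,
    KRLib.isExactK_of_ringEquiv τ.toRingEquiv (BlowPerfLib.isExactK_g _ hσ)⟩
  · show aeval v (τ.symm (X ⟨m⟩)) = _
    rw [show τ.symm (X ⟨m⟩) = X m from (AlgEquiv.symm_apply_eq _).mpr (rename_X _ _).symm, aeval_X]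
  · refine Eq.trans ?_ ((congrArg (Ideal.map τ.toRingEquiv) hker).trans ?_)
    · ext x
      rw [Ideal.mem_map_of_equiv]
      refine ⟨fun h => ⟨τ.symm x, h, τ.apply_symm_apply x⟩, ?_⟩
      rintro ⟨y, hy, rfl⟩
      show aeval v (τ.symm (τ y)) = 0
      rw [AlgEquiv.symm_apply_apply]
      exact hy
    · rw [Ideal.map_span, ← Set.range_comp]
      rfl

end BlowProjLib
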