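import Groth.Agent.BlowPerfLib.Koszul
import Groth.Agent.BlowUpLib.RegSmooth

/-!
# Compatible charts of a blow-up in a finitely generated ideal
-/

set_option autoImplicit false
set_option backward.isDefEq.respectTransparency false
set_option backward.isDefEq.respectTransparency.types false
set_option linter.style.haveILetI false

universe u

open CategoryTheory AlgebraicGeometry BlowUpLib MvPolynomial

namespace BlowProjLib

theorem mul_mem_of_range {A : Type u} [CommRing A] {r : ℕ} (a : Fin r → A) (k : Fin r) :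
    a k ∈ Ideal.span (Set.range a) := Ideal.subset_span ⟨k, rfl⟩

/-- The charts of a blow-up, one for each generator. -/
theorem exists_charts {A : Type u} [CommRing A] {r : ℕ} (a : Fin r → A)
    {P : Scheme.{u}} {p : P ⟶ Spec (CommRingCat.of A)}
    (hp : BlowUp.IsBlowUp p (BlowUpLib.specIdeal (A := A) (Ideal.span (Set.range a)))) :
    ∃ c : ∀ k, Spec (CommRingCat.of (BlowUp.affineAlgebra A (Ideal.span (Set.range a)) (a k))) ⟶ P,
      (∀ k, IsOpenImmersion (c k) ∧
        c k ≫ p = Spec.map (CommRingCat.ofHom (algebraMap A (BlowUp.affineAlgebra A (Ideal.span (Set.range a)) (a k))))) ∧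
      (∀ x, ∃ k, x ∈ Set.range (c k)) ∧
      ∀ k l q, chartVar a l k ∉ q.asIdeal → c l q ∈ Set.range (c k) := by
  obtain ⟨e, he⟩ := exists_iso hp (isBlowUp_proj (Ideal.span (Set.range a)))
  let I := Ideal.span (Set.range a)
  have ha : ∀ k, a k ∈ I := mul_mem_of_range a
  let w : ∀ k, CommRingCat.of (HomogeneousLocalization.Away (Rees.deg (reesAlgebra I)) (degOne I (a k) (ha k))) ≅
      CommRingCat.of (BlowUp.affineAlgebra A I (a k)) := fun k =>
    RingEquiv.toCommRingCatIso (awayEquiv I (a k) (ha k))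
  refine ⟨fun k => Spec.map (w k).hom ≫ Proj.awayι _ _ (degOne_mem I (a k) (ha k)) one_pos ≫ e.hom,
    fun k => ⟨inferInstance, ?_⟩, fun x => ?_, fun k l q hq => ?_⟩
  · rw [Category.assoc, Category.assoc, he]
    change _ ≫ _ ≫ Proj.toSpecZero _ ≫ Spec.map _ = _
    rw [Proj.awayι_toSpecZero_assoc, ← Spec.map_comp, ← Spec.map_comp]
    exact congrArg (fun φ => Spec.map (CommRingCat.ofHom φ)) (awayEquiv_comp I (a k) (ha k))
  · obtain ⟨⟨b, hb⟩, ⟨k, rfl⟩, hx⟩ := exists_degOne_notMem_of_span I (Set.range a) rfl (e.inv x)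
    rw [← Proj.opensRange_awayι _ _ (degOne_mem I (a k) hb) one_pos] at hx
    obtain ⟨q, hq⟩ := hx
    refine ⟨k, Spec.map (w k).inv q, ?_⟩
    rw [← Scheme.Hom.comp_apply, ← Category.assoc, ← Spec.map_comp, (w k).hom_inv_id, Spec.map_id,
      Category.id_comp, Scheme.Hom.comp_apply, hq, ← Scheme.Hom.comp_apply, e.inv_hom_id]
    rfl
  · let s := (awayEquiv I (a l) (ha l)).symm (chartVar a l k)
    have hs : awayAlg I (a l) (ha l) (a k) = s * awayAlg I (a l) (ha l) (a l) := by
      apply (awayEquiv I (a l) (ha l)).injective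
      rw [map_mul, RingEquiv.apply_symm_apply]
      have h := awayEquiv_comp I (a l) (ha l)
      exact (RingHom.congr_fun h (a k)).trans
        ((chartVar_mul a l k).symm.trans (congrArg (chartVar a l k * ·) (RingHom.congr_fun h (a l)).symm))
    let q' := Spec.map (w l).hom q
    have hs' : s ∉ q'.asIdeal := by
      show (w l).hom s ∉ q.asIdeal
      rwa [show (w l).hom s = chartVar a l k from RingEquiv.apply_symm_apply _ _]
    have hmem : Proj.awayι _ _ (degOne_mem I (a l) (ha l)) one_pos q' ∈
        Proj.basicOpen (Rees.deg (reesAlgebra I)) (degOne I (a k) (ha k)) := by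
      have h2 : q' ∈ Proj.awayι _ _ (degOne_mem I (a l) (ha l)) one_pos ⁻¹ᵁ
          Proj.basicOpen (Rees.deg (reesAlgebra I)) (degOne I (a k) (ha k)) := by
        rw [Proj.awayι_preimage_basicOpen _ (degOne_mem I (a l) (ha l)) one_pos (degOne_mem I (a k) (ha k)) one_pos,
          ← eq_elem I (ha k) (ha l) hs]
        exact hs'
      exact h2
    rw [← Proj.opensRange_awayι _ _ (degOne_mem I (a k) (ha k)) one_pos] at hmem
    obtain ⟨q'', hq''⟩ := hmem
    refine ⟨Spec.map (w k).inv q'', ?_⟩
    rw [← Scheme.Hom.comp_apply, ← Category.assoc, ← Spec.map_comp, (w k).hom_inv_id, Spec.map_id,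
      Category.id_comp, Scheme.Hom.comp_apply, Scheme.Hom.comp_apply, hq'']
    rfl

end BlowProjLib
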