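import Mathlib

/-!
# A morphism presented by a surjection of rings between charts
-/

set_option autoImplicit false
set_option backward.isDefEq.respectTransparency false
set_option backward.isDefEq.respectTransparency.types false
set_option linter.style.haveILetI false

universe u

open AlgebraicGeometry CategoryTheory

namespace BlowProjLib

theorem bijective_appLE_top {Y P : Scheme.{u}} (c : Y ⟶ P) [IsOpenImmersion c] (D : P.Opens)
    (hD : D = c.opensRange) (h : (⊤ : Y.Opens) ≤ c ⁻¹ᵁ D) : Function.Bijective (c.appLE D ⊤ h).hom := by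
  have := c.isIso_app D hD.le
  haveI : IsIso (c.appLE D ⊤ h) := by
    rw [Scheme.Hom.appLE]
    have e : (homOfLE h).op = (eqToHom (le_antisymm h le_top)).op := Subsingleton.elim _ _
    rw [e]
    infer_instance
  exact ConcreteCategory.bijective_of_isIso (c.appLE D ⊤ h)

theorem closedImmersion_and_ker {X' P : Scheme.{u}} (j : X' ⟶ P) {R C : Type u} [CommRing R] [CommRing C]
    (c : Spec (CommRingCat.of R) ⟶ P) [IsOpenImmersion c] (c' : Spec (CommRingCat.of C) ⟶ X') [IsOpenImmersion c']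
    (ψ : R →+* C) (hψ : Function.Surjective ψ) (hfac : Spec.map (CommRingCat.ofHom ψ) ≫ c = c' ≫ j)
    (hpre : j ⁻¹ᵁ c.opensRange = c'.opensRange) :
    IsClosedImmersion (j ∣_ c.opensRange) ∧
      ∃ ε : R ≃+* Γ(P, c.opensRange), RingHom.ker (j.app c.opensRange).hom = (RingHom.ker ψ).map ε := by
  haveI : IsClosedImmersion (Spec.map (CommRingCat.ofHom ψ)) := IsClosedImmersion.spec_of_surjective _ hψ
  refine ⟨?_, ?_⟩
  · have e : j ∣_ c.opensRange = (X'.isoOfEq hpre).hom ≫ c'.isoOpensRange.inv ≫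
        Spec.map (CommRingCat.ofHom ψ) ≫ c.isoOpensRange.hom := by
      rw [← cancel_mono c.opensRange.ι, morphismRestrict_ι, Category.assoc, Category.assoc, Category.assoc,
        Scheme.Hom.isoOpensRange_hom_ι, hfac, Scheme.Hom.isoOpensRange_inv_comp_assoc, Scheme.isoOfEq_hom_ι_assoc]
    rw [e]
    infer_instance
  · have hc : (⊤ : (Spec (CommRingCat.of R)).Opens) ≤ c ⁻¹ᵁ c.opensRange := fun x _ => ⟨x, rfl⟩
    have hc' : (⊤ : (Spec (CommRingCat.of C)).Opens) ≤ c' ⁻¹ᵁ (j ⁻¹ᵁ c.opensRange) := fun x _ => by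
      rw [hpre]; exact ⟨x, rfl⟩
    have b1 := bijective_appLE_top c c.opensRange rfl hc
    have b2 := bijective_appLE_top c' (j ⁻¹ᵁ c.opensRange) hpre hc'
    let δ : Γ(P, c.opensRange) →+* R := (c.appLE c.opensRange ⊤ hc ≫ (Scheme.ΓSpecIso (CommRingCat.of R)).hom).hom
    have hδ : Function.Bijective δ :=
      (ConcreteCategory.bijective_of_isIso (Scheme.ΓSpecIso (CommRingCat.of R)).hom).comp b1
    let δ' : Γ(X', j ⁻¹ᵁ c.opensRange) →+* C :=
      (c'.appLE (j ⁻¹ᵁ c.opensRange) ⊤ hc' ≫ (Scheme.ΓSpecIso (CommRingCat.of C)).hom).hom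
    have hδ' : Function.Injective δ' :=
      ((ConcreteCategory.bijective_of_isIso (Scheme.ΓSpecIso (CommRingCat.of C)).hom).comp b2).1
    have hcat : j.app c.opensRange ≫ c'.appLE (j ⁻¹ᵁ c.opensRange) ⊤ hc' ≫ (Scheme.ΓSpecIso (CommRingCat.of C)).hom =
        c.appLE c.opensRange ⊤ hc ≫ (Scheme.ΓSpecIso (CommRingCat.of R)).hom ≫ CommRingCat.ofHom ψ := by
      rw [← Scheme.ΓSpecIso_naturality (CommRingCat.ofHom ψ), ← Category.assoc, ← Category.assoc]
      congr 1
      rw [Scheme.Hom.app_eq_appLE, Scheme.Hom.appLE_comp_appLE, Scheme.Hom.appTop, Scheme.Hom.app_eq_appLE,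
        Scheme.Hom.appLE_comp_appLE]
      simp only [hfac]
      rfl
    refine ⟨(RingEquiv.ofBijective δ hδ).symm, Ideal.ext fun x => ?_⟩
    rw [← Ideal.comap_symm, Ideal.mem_comap, RingEquiv.symm_symm, RingHom.mem_ker, RingHom.mem_ker]
    have hx : δ' ((j.app c.opensRange).hom x) = ψ (δ x) := congr($(hcat).hom x)
    show _ ↔ ψ (δ x) = 0
    rw [← hx, map_eq_zero_iff δ' hδ']

end BlowProjLib
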