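import Groth.Agent.BlowProjLib.Sections
import Groth.Agent.BlowProjLib.Charts
import Groth.Agent.BlowProjLib.Present
import Groth.Agent.BlowProjLib.Glue
import Groth.Agent.KRLib.Model
import Groth.Prelude.Def_LCI2

/-!
# The blow-up of a Koszul regular ideal inside the projective bundle
-/

set_option autoImplicit false
set_option backward.isDefEq.respectTransparency false
set_option backward.isDefEq.respectTransparency.types false
set_option linter.style.haveILetI false
set_option linter.unusedSectionVars false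

universe u

open AlgebraicGeometry CategoryTheory CategoryTheory.Limits Opposite TopologicalSpace
open AmpleLib (res GenOn GenAt)
open KFlatLib (pb puSec)
open KoszDetLib

noncomputable section

namespace BlowProjLib

theorem nzd_affineAlgebra {A : Type u} [CommRing A] (I : Ideal A) (a : A) :
    algebraMap A (BlowUp.affineAlgebra A I a) a ∈ nonZeroDivisors (BlowUp.affineAlgebra A I a) :=
  mem_nonZeroDivisors_iff_right.mpr fun x hx => Subtype.ext
    ((IsLocalization.Away.algebraMap_isUnit (S := Localization.Away a) a).mul_left_eq_zero.mp (congrArg Subtype.val hx))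

variable {X X' P : Scheme.{u}} {E : X.Modules} (u : E ⟶ Coh.structureModule X) {π : P ⟶ X} {O1 : P.Modules}
  (q : pb π E ⟶ O1) (j : X' ⟶ P) (L : X'.IdealSheafData) (e : pb j O1 ≅ ClSub.idealMod L)
  (hcomp : (Scheme.Modules.pullbackCongr (rfl : j ≫ π = j ≫ π)).inv.app E ≫
      (Scheme.Modules.pullbackComp j π).inv.app E ≫ (Scheme.Modules.pullback j).map q ≫ e.hom ≫
        ClSub.idealModι L =
    (Scheme.Modules.pullback (j ≫ π)).map u ≫
      ((Scheme.Modules.pullbackPushforwardAdjunction (j ≫ π)).homEquiv _ _).symm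
        (SheafOfModules.unitToPushforwardObjUnit (j ≫ π).toRingCatSheafHom))

/-- The functions on an open of an affine scheme. -/
def rmap (C : Type u) [CommRing C] (V : (Spec (CommRingCat.of C)).Opens) : C →+* Γ(Spec (CommRingCat.of C), V) :=
  ((Scheme.ΓSpecIso (CommRingCat.of C)).inv ≫
    (Spec (CommRingCat.of C)).presheaf.map (homOfLE (le_top : V ≤ ⊤)).op).hom

theorem appLE_specMap {C : Type u} [CommRing C] {U : X.Opens} (hU : IsAffineOpen U) (φ : Γ(X, U) →+* C)
    (V : (Spec (CommRingCat.of C)).Opens) (g : Spec (CommRingCat.of C) ⟶ X)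
    (hg : g = Spec.map (CommRingCat.ofHom φ) ≫ hU.fromSpec) (h : V ≤ g ⁻¹ᵁ U) (r : Γ(X, U)) :
    g.appLE U V h r = rmap C V (φ r) := by
  subst hg
  rw [← Scheme.Hom.appLE_comp_appLE _ hU.fromSpec U ⊤ V hU.fromSpec_preimage_self.ge le_top,
    CommRingCat.comp_apply, CycPBLib.fromSpec_appLE_self]
  show (Spec (CommRingCat.of C)).presheaf.map (homOfLE (le_top : V ≤ ⊤)).op
      ((Spec.map (CommRingCat.ofHom φ)).appTop ((Scheme.ΓSpecIso Γ(X, U)).inv r)) = _
  exact congrArg ((Spec (CommRingCat.of C)).presheaf.map (homOfLE (le_top : V ≤ ⊤)).op).hom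
    congr($(Scheme.ΓSpecIso_inv_naturality (CommRingCat.ofHom φ)) r).symm

theorem rmap_top_bijective (C : Type u) [CommRing C] : Function.Bijective (rmap C ⊤) := by
  have : rmap C ⊤ = (Scheme.ΓSpecIso (CommRingCat.of C)).inv.hom := by
    rw [rmap]
    exact congr($((congrArg ((Scheme.ΓSpecIso (CommRingCat.of C)).inv ≫ ·)
      ((Spec (CommRingCat.of C)).presheaf.map_id _)).trans (Category.comp_id _)).hom)
  rw [this]
  exact ConcreteCategory.bijective_of_isIso (Scheme.ΓSpecIso (CommRingCat.of C)).inv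

include hcomp in
/-- Coordinates of a chart of the blow-up in the projective bundle. -/
theorem chart_coord {U : X.Opens} (hU : IsAffineOpen U) {C : Type u} [CommRing C]
    (φ : Γ(X, U) →+* C) (c' : Spec (CommRingCat.of C) ⟶ X')
    (hc' : c' ≫ j ≫ π = Spec.map (CommRingCat.ofHom φ) ≫ hU.fromSpec)
    (m₁ m₂ : Γ(E, U)) {D : P.Opens} (hD : D ≤ π ⁻¹ᵁ U) (t : Γ(P, D))
    (h : res O1 hD (q.app (π ⁻¹ᵁ U) (puSec π m₁)) = t • res O1 hD (q.app (π ⁻¹ᵁ U) (puSec π m₂)))
    (v₁ v₂ : C) (a₀ : C) (hv₁ : v₁ * a₀ = φ (show Γ(X, U) from u.app U m₁))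
    (hv₂ : v₂ * a₀ = φ (show Γ(X, U) from u.app U m₂))
    {V : (Spec (CommRingCat.of C)).Opens} (hV : V ≤ (c' ≫ j) ⁻¹ᵁ D)
    (hreg : rmap C V a₀ ∈ nonZeroDivisors Γ(Spec (CommRingCat.of C), V)) :
    rmap C V v₁ = (c' ≫ j).appLE D V hV t * rmap C V v₂ := by
  have hg : V ≤ (c' ≫ j ≫ π) ⁻¹ᵁ U := hV.trans ((c' ≫ j).preimage_mono hD)
  have h0 := fun r => appLE_specMap hU φ V (c' ≫ j ≫ π) hc' hg r
  have hV' : V ≤ c' ⁻¹ᵁ (j ⁻¹ᵁ D) := hV
  have h1 := congrArg (c'.appLE (j ⁻¹ᵁ D) V hV').hom (coord_eq u q j L e hcomp m₁ m₂ hD t h)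
  rw [map_mul, ← CommRingCat.comp_apply, ← CommRingCat.comp_apply, ← CommRingCat.comp_apply,
    Scheme.Hom.appLE_comp_appLE, Scheme.Hom.app_eq_appLE, Scheme.Hom.appLE_comp_appLE] at h1
  rw [(h0 _).trans (congrArg (rmap C V) hv₁.symm), (h0 _).trans (congrArg (rmap C V) hv₂.symm),
    map_mul, map_mul, ← mul_assoc] at h1
  exact mem_nonZeroDivisors_iff_right.mp hreg _ (by rw [sub_mul, h1, sub_self]) |> sub_eq_zero.mp

theorem exists_basic_nbhd {C : Type u} [CommRing C] (p : Spec (CommRingCat.of C))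
    (W : (Spec (CommRingCat.of C)).Opens) (hp : p ∈ W) :
    ∃ V : (Spec (CommRingCat.of C)).Opens, p ∈ V ∧ V ≤ W ∧
      ∀ x ∈ nonZeroDivisors C, rmap C V x ∈ nonZeroDivisors Γ(Spec (CommRingCat.of C), V) := by
  obtain ⟨h, hle, hph⟩ := (isAffineOpen_top (Spec (CommRingCat.of C))).exists_basicOpen_le (V := W) ⟨p, hp⟩ trivial
  refine ⟨_, hph, hle, fun x hx => ?_⟩
  haveI := (isAffineOpen_top (Spec (CommRingCat.of C))).isLocalization_basicOpen h
  refine BlowUpLib.nzd_of_flat (rmap C _) ?_ hx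
  refine RingHom.Flat.comp (f := (Scheme.ΓSpecIso (CommRingCat.of C)).inv.hom) ?_ ?_
  · exact RingHom.Flat.of_bijective (ConcreteCategory.bijective_of_isIso (Scheme.ΓSpecIso (CommRingCat.of C)).inv)
  · exact RingHom.flat_algebraMap_iff.mpr (IsLocalization.flat _ (Submonoid.powers h))

theorem notMem_of_isUnit_rmap {C : Type u} [CommRing C] {p : Spec (CommRingCat.of C)}
    {V : (Spec (CommRingCat.of C)).Opens} (hp : p ∈ V) {v : C} (hv : IsUnit (rmap C V v)) : v ∉ p.asIdeal := by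
  have h1 : p ∈ (Spec (CommRingCat.of C)).basicOpen (rmap C V v) := by
    rw [Scheme.mem_basicOpen _ _ _ hp]
    exact hv.map _
  rw [rmap, CommRingCat.comp_apply, Scheme.basicOpen_res] at h1
  have h2 := h1.2
  rw [basicOpen_eq_of_affine', ← CommRingCat.comp_apply, Iso.inv_hom_id] at h2
  exact h2

include hcomp in
theorem local_main {n : ℕ} (hP : KRR.IsProjBundle π E O1 q) (J : X.IdealSheafData)
    (hb : BlowUp.IsBlowUp (j ≫ π) J) {U : X.Opens} (hU : IsAffineOpen U)
    (φ : E.restrict U.ι ≅ FlatMod.freeMod (↑U) (n + 1))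
    (hexact : IsExactK fun k => (show Γ(X, U) from u.app U (CycPBLib.bas φ k)))
    (hJU : J.ideal ⟨U, hU⟩ = Ideal.span (Set.range fun k => (show Γ(X, U) from u.app U (CycPBLib.bas φ k))))
    {y : P} (hy : π y ∈ U) :
    ∃ D : P.affineOpens, y ∈ D.1 ∧ IsClosedImmersion (j ∣_ D.1) ∧
      ∃ rs : List Γ(P, D.1), rs.length = n ∧ LCI.IsKoszulRegularSeq Γ(P, D.1) rs ∧
        RingHom.ker (j.app D.1).hom = Ideal.ofList rs := by
  classical
  haveI := hP.epi
  have hinv : PicF.IsInvertible O1 := (CohCmpLib.invertible_iff_rank_one O1).2 hP.invertible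
  let A := Γ(X, U)
  let a : Fin (n + 1) → A := fun k => (show Γ(X, U) from u.app U (CycPBLib.bas φ k))
  have hb' : BlowUp.IsBlowUp (pullback.fst hU.fromSpec (j ≫ π))
      (BlowUpLib.specIdeal (A := A) (Ideal.span (Set.range a))) :=
    hJU ▸ BlowUpLib.comap_fromSpec J ⟨U, hU⟩ ▸
      BlowUpLib.isBlowUp_of_isPullback (IsPullback.of_hasPullback hU.fromSpec (j ≫ π)).flip hb
  obtain ⟨c₀, hc₀, hcov₀, hov⟩ := exists_charts a hb'
  haveI : ∀ k, IsOpenImmersion (c₀ k) := fun k => (hc₀ k).1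
  let c' := fun k => c₀ k ≫ pullback.snd hU.fromSpec (j ≫ π)
  have hc' : ∀ k, c' k ≫ j ≫ π = Spec.map (CommRingCat.ofHom
      (algebraMap A (BlowUp.affineAlgebra A (Ideal.span (Set.range a)) (a k)))) ≫ hU.fromSpec := fun k => by
    simp only [c', Category.assoc]
    rw [← pullback.condition, reassoc_of% (hc₀ k).2]
  obtain ⟨c, hc⟩ := CycPBLib.exists_charts hU φ hP
  haveI : ∀ k, IsOpenImmersion (c k) := fun k => (hc k).1
  let e' : Fin (n + 1) → Γ(O1, π ⁻¹ᵁ U) := CycPBLib.eSec φ q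
  let D : Fin (n + 1) → P.Opens := fun k => CycPBLib.genLocus' (e' k) hinv
  have hle : ∀ k, D k ≤ π ⁻¹ᵁ U := fun k => CycPBLib.genLocus'_le _ _
  have hgen : ∀ k, GenOn O1 (res O1 (hle k) (e' k)) := fun k => CycPBLib.genLocus'_genOn _ _
  have hcD : ∀ k, (c k).opensRange = D k := fun k => Opens.ext (hc k).2.1
  choose t ht using fun k l => (hgen k (D k) le_rfl).2 (res O1 (hle k) (e' l))
  have htk : ∀ k l, res O1 (hle k) (e' l) = t k l • res O1 (hle k) (e' k) := fun k l => by
    rw [← ht k l]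
    exact congrArg _ (AmpleLib.res_refl _ _)
  let cv := fun k l => BlowUpLib.chartVar a k l
  have hcv : ∀ k l, cv k l * algebraMap A _ (a k) = algebraMap A _ (a l) := fun k l => BlowUpLib.chartVar_mul a k l
  -- near a point where the `l`-th coordinate generates
  have hnear : ∀ k l p, (c' k ≫ j) p ∈ D l →
      cv k l ∉ p.asIdeal ∧ (c' k ≫ j) p ∈ P.basicOpen (t l k) := by
    intro k l p hp
    obtain ⟨V, hpV, hVW, hnzd⟩ := exists_basic_nbhd p ((c' k ≫ j) ⁻¹ᵁ D l) hp
    have h1 := chart_coord u q j L e hcomp hU _ (c' k) (hc' k) (CycPBLib.bas φ k) (CycPBLib.bas φ l) (hle l)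
      (t l k) (htk l k) (cv k k) (cv k l) (algebraMap A _ (a k)) (hcv k k) (hcv k l) hVW
      (hnzd _ (nzd_affineAlgebra _ _))
    rw [show cv k k = 1 from BlowUpLib.chartVar_self a k, map_one] at h1
    refine ⟨notMem_of_isUnit_rmap hpV (IsUnit.of_mul_eq_one_right _ h1.symm), ?_⟩
    have h2 : p ∈ (Spec (CommRingCat.of _)).basicOpen ((c' k ≫ j).appLE (D l) V hVW (t l k)) := by
      rw [Scheme.mem_basicOpen _ _ _ hpV]
      exact (IsUnit.of_mul_eq_one _ h1.symm).map _
    rw [Scheme.basicOpen_appLE] at h2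
    exact h2.2
  -- a chart of the blow-up lands in the chart of the bundle
  have hin : ∀ k p, (c' k ≫ j) p ∈ D k := by
    intro k p
    have hyU : π ((c' k ≫ j) p) ∈ U := by
      rw [← Scheme.Hom.comp_apply, Category.assoc, hc', Scheme.Hom.comp_apply]
      exact hU.range_fromSpec.subset ⟨_, rfl⟩
    obtain ⟨l, hl⟩ := CycPBLib.exists_genAt_eSec (q := q) φ hinv hyU
    have hyl : (c' k ≫ j) p ∈ D l := ⟨hyU, hl⟩
    refine ⟨hyU, (AmpleLib.genAt_res (hle l) _ hyl).mp ?_⟩
    rw [htk l k, AmpleLib.genAt_smul_iff _ _ hyl ((hgen l).genAt hyl)]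
    exact (hnear k l p hyl).2
  -- the preimage of a chart of the bundle
  have hpre : ∀ k, j ⁻¹ᵁ (c k).opensRange = (c' k).opensRange := by
    intro k
    refine le_antisymm (fun x hx => ?_) ?_
    · replace hx : j x ∈ D k := hcD k ▸ hx
      obtain ⟨u₀, hu₀⟩ : (j ≫ π) x ∈ Set.range hU.fromSpec := hU.range_fromSpec.symm ▸ hle k hx
      obtain ⟨z, -, hz⟩ :=
        Scheme.Pullback.exists_preimage_pullback (f := hU.fromSpec) (g := j ≫ π) u₀ x hu₀
      obtain ⟨l, p, hp⟩ := hcov₀ z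
      have hxp : c' l p = x := by rw [Scheme.Hom.comp_apply, hp, hz]
      obtain ⟨p', hp'⟩ := hov k l p (hnear l k p (by rw [Scheme.Hom.comp_apply, hxp]; exact hx)).1
      exact ⟨p', by rw [Scheme.Hom.comp_apply, hp', ← Scheme.Hom.comp_apply]; exact hxp⟩
    · rintro _ ⟨p, rfl⟩
      rw [hcD k]
      exact hin k p
  obtain ⟨k, hk⟩ := CycPBLib.exists_genAt_eSec (q := q) φ hinv hy
  have hyk : y ∈ (c k).opensRange := by rw [hcD k]; exact ⟨hy, hk⟩
  obtain ⟨ψ, g, hψ, hψX, hker, hgK⟩ := exists_presentation a hexact k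
  obtain ⟨ψ', hψ'⟩ := Spec.map_surjective (IsOpenImmersion.lift (c k) (c' k ≫ j) (by
    rintro _ ⟨p, rfl⟩
    have := hin k p
    rw [← hcD k] at this
    exact this))
  have hfac : Spec.map ψ' ≫ c k = c' k ≫ j := by rw [hψ', IsOpenImmersion.lift_fac]
  have hψeq : ψ'.hom = ψ.toRingHom := by
    refine MvPolynomial.ringHom_ext (fun r => ?_) fun m => ?_
    · have h1 : CommRingCat.ofHom (MvPolynomial.C : A →+* MvPolynomial (ULift.{u} (Fin n)) A) ≫ ψ' =
          CommRingCat.ofHom (algebraMap A (BlowUp.affineAlgebra A (Ideal.span (Set.range a)) (a k))) := by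
        refine Spec.map_injective ?_
        rw [← cancel_mono hU.fromSpec, Spec.map_comp, Category.assoc, ← (hc k).2.2.1, reassoc_of% hfac]
        exact hc' k
      exact (congr($(h1).hom r)).trans (ψ.commutes r).symm
    · have htop : (⊤ : (Spec (CommRingCat.of (MvPolynomial (ULift.{u} (Fin n)) A))).Opens) ≤ c k ⁻¹ᵁ D k :=
        fun x _ => by show c k x ∈ D k; rw [← hcD k]; exact ⟨x, rfl⟩
      have htop' : (⊤ : (Spec (CommRingCat.of (BlowUp.affineAlgebra A (Ideal.span (Set.range a)) (a k)))).Opens) ≤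
          (c' k ≫ j) ⁻¹ᵁ D k := fun x _ => hin k x
      have h1 : (c k).appLE (D k) ⊤ htop (t k (k.succAbove m.down)) =
          (Scheme.ΓSpecIso (CommRingCat.of (MvPolynomial (ULift.{u} (Fin n)) A))).inv (MvPolynomial.X m) := by
        rw [CycPBLib.val_of_cond (hc k).2.2.2 (j := k) (CycPBLib.chartVals_self A n k) (hle k) (htk k _) htop]
        simp only [CycPBLib.chartVals, Fin.insertNth_apply_succAbove]
        rfl
      have hreg : rmap _ ⊤ (algebraMap A (BlowUp.affineAlgebra A (Ideal.span (Set.range a)) (a k)) (a k)) ∈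
          nonZeroDivisors Γ(Spec (CommRingCat.of (BlowUp.affineAlgebra A (Ideal.span (Set.range a)) (a k))), ⊤) := by
        exact BlowUpLib.nzd_of_flat _ (RingHom.Flat.of_bijective (rmap_top_bijective _)) (nzd_affineAlgebra _ _)
      have h2 := chart_coord u q j L e hcomp hU _ (c' k) (hc' k) (CycPBLib.bas φ (k.succAbove m.down))
        (CycPBLib.bas φ k) (hle k) (t k (k.succAbove m.down)) (htk k _) (cv k (k.succAbove m.down)) (cv k k)
        (algebraMap A _ (a k)) (hcv k _) (hcv k k) htop' hreg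
      rw [show cv k k = 1 from BlowUpLib.chartVar_self a k, map_one, mul_one] at h2
      have h3 : (c' k ≫ j).appLE (D k) ⊤ htop' (t k (k.succAbove m.down)) =
          (Scheme.ΓSpecIso (CommRingCat.of _)).inv (ψ'.hom (MvPolynomial.X m)) := by
        simp only [← hfac]
        rw [← Scheme.Hom.appLE_comp_appLE _ (c k) (D k) ⊤ ⊤ htop le_top, CommRingCat.comp_apply, h1,
          CycPBLib.appLE_top]
        exact congr($(Scheme.ΓSpecIso_inv_naturality ψ') (MvPolynomial.X m)).symm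
      have h4 := h2.trans h3
      refine ((ConcreteCategory.bijective_of_isIso (Scheme.ΓSpecIso (CommRingCat.of _)).inv).1 ?_).trans (hψX m.down).symm
      refine h4.symm.trans ?_
      simp [rmap]
      rfl
  have hψ'' : Function.Surjective ψ'.hom := by rw [hψeq]; exact hψ
  obtain ⟨hcl, ε, hε⟩ := closedImmersion_and_ker j (c k) (c' k) ψ'.hom hψ'' hfac (hpre k)
  refine ⟨⟨(c k).opensRange, isAffineOpen_opensRange (c k)⟩, hyk, hcl, List.ofFn fun i => ε (g i),
    List.length_ofFn, KRLib.isKoszulRegularSeq_of_isExactK _ (KRLib.isExactK_of_ringEquiv ε hgK), ?_⟩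
  rw [hε, hψeq, hker, Ideal.map_span, ← Set.range_comp, Ideal.ofList]
  exact congrArg Ideal.span (Set.ext fun x => (List.mem_ofFn (f := fun i => ε (g i))).symm)

end BlowProjLib

end
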