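import Groth.Agent.BlowProjLib.Main
import Groth.Agent.OmegaAffLib.Rank
import Groth.Agent.FittLib.Generated
import Groth.Prelude.Def_RegImm

/-!
# The blow-up in a Koszul regular ideal is regularly immersed in the projective bundle
-/

set_option autoImplicit false
set_option backward.isDefEq.respectTransparency false
set_option backward.isDefEq.respectTransparency.types false
set_option linter.style.haveILetI false

universe u

open AlgebraicGeometry CategoryTheory CategoryTheory.Limits Opposite TopologicalSpace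
open KFlatLib (pb puSec)
open KoszDetLib

noncomputable section

namespace BlowProjLib

variable {X X' P : Scheme.{u}} {E : X.Modules} (u : E ⟶ Coh.structureModule X)

theorem isExactK_bas {U : X.Opens} {m N : ℕ} (b : Module.Basis (Fin m) Γ(X, U) Γ(E, U))
    (φ : E.restrict U.ι ≅ FlatMod.freeMod (↑U) N)
    (hb : IsExactK fun i => (show Γ(X, U) from u.app U (b i))) :
    IsExactK fun k => (show Γ(X, U) from u.app U (CycPBLib.bas φ k)) := by
  classical
  obtain ⟨B, hB⟩ := exists_basis_bas φ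
  have hlin : ∀ {ι : Type} [Fintype ι] (v : ι → Γ(E, U)) (c : ι → Γ(X, U)),
      (show Γ(X, U) from u.app U (∑ i, c i • v i)) = ∑ i, c i * (show Γ(X, U) from u.app U (v i)) := by
    intro ι _ v c
    refine (map_sum (u.app U).hom _ _).trans (Finset.sum_congr rfl fun i _ => ?_)
    exact QCohLib.app_smul u U (c i) (v i)
  refine KRLib.isExactK_of_matrix hb (fun i k => B.repr (b i) k) (fun k i => b.repr (B k) i)
    (fun i => ?_) (fun k => ?_) ?_
  · conv_lhs => rw [← B.sum_repr (b i)]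
    refine (hlin _ _).trans (Finset.sum_congr rfl fun k _ => ?_)
    rw [hB]
  · show (show Γ(X, U) from u.app U (CycPBLib.bas φ k)) = _
    rw [← hB]
    conv_lhs => rw [← b.sum_repr (B k)]
    exact hlin _ _
  · ext k l
    rw [Matrix.mul_apply]
    have h1 := congrArg (fun s => B.repr s l) (b.sum_repr (B k))
    simp only [map_sum, map_smul, Finsupp.coe_finset_sum, Finset.sum_apply, Finsupp.smul_apply,
      smul_eq_mul, Module.Basis.repr_self, Finsupp.single_apply] at h1
    rw [h1, Matrix.one_apply]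

theorem ideal_eq_span_bas (J : X.IdealSheafData) {U : X.Opens} (hU : IsAffineOpen U) {N : ℕ}
    (φ : E.restrict U.ι ≅ FlatMod.freeMod (↑U) N)
    (hJ : J.ideal ⟨U, hU⟩ = Ideal.span (Set.range fun s : Γ(E, U) => (show Γ(X, U) from u.app U s))) :
    J.ideal ⟨U, hU⟩ = Ideal.span (Set.range fun k => (show Γ(X, U) from u.app U (CycPBLib.bas φ k))) := by
  obtain ⟨B, hB⟩ := exists_basis_bas φ
  refine hJ.trans (le_antisymm (Ideal.span_le.mpr ?_) (Ideal.span_mono ?_))
  · rintro _ ⟨s, rfl⟩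
    show (show Γ(X, U) from u.app U s) ∈ _
    rw [← B.sum_repr s]
    refine (congrArg (· ∈ _) (map_sum (u.app U).hom _ _)).mpr (Ideal.sum_mem _ fun k _ => ?_)
    show (show Γ(X, U) from u.app U (B.repr s k • B k)) ∈ _
    rw [show (show Γ(X, U) from u.app U (B.repr s k • B k)) = B.repr s k * (show Γ(X, U) from u.app U (B k)) from
      QCohLib.app_smul u U _ _]
    exact Ideal.mul_mem_left _ _ (Ideal.subset_span ⟨k, by rw [hB]⟩)
  · rintro _ ⟨k, rfl⟩
    exact ⟨_, rfl⟩

theorem rank_eq {c m : ℕ} (hEc : FlatMod.IsFinLocFreeOfRank c E) {U : X.Opens}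
    (φ : E.restrict U.ι ≅ FlatMod.freeMod (↑U) m) {x : X} (hx : x ∈ U) : m = c := by
  obtain ⟨V, hxV, ⟨ψ⟩⟩ := hEc x
  obtain ⟨W, hW, hxW, hWle⟩ := exists_isAffineOpen_mem_and_subset (x := x) (U := U ⊓ V) ⟨hx, hxV⟩
  obtain ⟨b₁⟩ := FittLib.nonempty_basis_of_iso E φ (hWle.trans inf_le_left)
  obtain ⟨b₂⟩ := FittLib.nonempty_basis_of_iso E ψ (hWle.trans inf_le_right)
  haveI : Nonempty (W : Scheme.{u}) := ⟨⟨x, hxW⟩⟩
  haveI : Nontrivial Γ(X, W) := inferInstance
  simpa using Fintype.card_congr (b₁.indexEquiv b₂)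

theorem koszulRegularOfCodim (hE : FlatMod.IsFinLocFree E)
    (hu : ∀ x : X, ∃ U : X.affineOpens, x ∈ U.1 ∧
      ∃ (n : ℕ) (b : Module.Basis (Fin n) Γ(X, U.1) (E.val.obj (op U.1))),
        LCI.IsKoszulRegularSeq Γ(X, U.1) (List.ofFn fun k => ((u.val.app (op U.1)).hom (b k) : Γ(X, U.1))))
    (J : X.IdealSheafData) (hJ : ∀ U : X.affineOpens, J.ideal U = @Ideal.span Γ(X, U.1) _
      (Set.range fun s : E.val.obj (op U.1) => ((u.val.app (op U.1)).hom s : Γ(X, U.1))))
    (π : P ⟶ X) (O1 : P.Modules) (q : (Scheme.Modules.pullback π).obj E ⟶ O1) (hP : KRR.IsProjBundle π E O1 q)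
    (f : X' ⟶ X) (hf : BlowUp.IsBlowUp f J) (j : X' ⟶ P) (hjπ : j ≫ π = f)
    (e : (Scheme.Modules.pullback j).obj O1 ≅ ClSub.idealMod (BlowUp.exceptional f J))
    (hcomp : (Scheme.Modules.pullbackCongr hjπ).inv.app E ≫ (Scheme.Modules.pullbackComp j π).inv.app E ≫
        (Scheme.Modules.pullback j).map q ≫ e.hom ≫ ClSub.idealModι (BlowUp.exceptional f J) =
      (Scheme.Modules.pullback f).map u ≫
        ((Scheme.Modules.pullbackPushforwardAdjunction f).homEquiv _ _).symm
          (SheafOfModules.unitToPushforwardObjUnit f.toRingCatSheafHom))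
    (c : ℕ) (hEc : FlatMod.IsFinLocFreeOfRank c E) :
    RegImm.IsRegularImmersionOfCodim .koszul (c - 1) j := by
  subst hjπ
  haveI := hP.epi
  haveI : Coh.IsQCoh E := FinLFAnn.isQCoh_of_isFinLocFree hE
  have hloc : ∀ y : P, ∃ D : P.affineOpens, y ∈ D.1 ∧ IsClosedImmersion (j ∣_ D.1) ∧
      ∃ rs : List Γ(P, D.1), rs.length = c - 1 ∧ LCI.IsKoszulRegularSeq Γ(P, D.1) rs ∧
        RingHom.ker (j.app D.1).hom = Ideal.ofList rs := by
    intro y
    obtain ⟨⟨U, hU⟩, hyU, m, b, hb⟩ := hu (π y)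
    obtain ⟨φ⟩ := OmegaAffLib.nonempty_restrict_iso_freeMod hU E b
    have hm : m = c := rank_eq hEc φ hyU
    subst hm
    cases m with
    | zero =>
      obtain ⟨k, -⟩ := CycPBLib.exists_genAt_eSec (q := q) φ ((CohCmpLib.invertible_iff_rank_one O1).2 hP.invertible) hyU
      exact k.elim0
    | succ n =>
      exact local_main u q j _ e hcomp hP J hf hU φ
        (isExactK_bas u b φ (KoszDetLib.isExactK_of_isKoszulRegularSeq _ hb))
        (ideal_eq_span_bas u J hU φ (hJ ⟨U, hU⟩)) hyU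
  choose D hyD hcl rs hlen hK hker using hloc
  haveI : IsClosedImmersion j := by
    refine (IsZariskiLocalAtTarget.iff_of_iSup_eq_top (P := @IsClosedImmersion) (fun y => (D y).1)
      (top_le_iff.mp fun y _ => Opens.mem_iSup.mpr ⟨y, hyD y⟩)).mpr hcl
  exact ⟨inferInstance, fun z => ⟨D (j z), hyD _, hcl _, rs _, hlen _, hK _, hker _⟩⟩

end BlowProjLib

end
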