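import Groth.Agent.BlowProjLib.Global

/-!
# The regular immersion without a rank hypothesis
-/

set_option autoImplicit false
set_option backward.isDefEq.respectTransparency false
set_option backward.isDefEq.respectTransparency.types false
set_option linter.style.haveILetI false

universe u

open AlgebraicGeometry CategoryTheory CategoryTheory.Limits Opposite TopologicalSpace
open KFlatLib (pb puSec)
open KoszDetLib

noncomputable section

namespace BlowProjLib

variable {X X' P : Scheme.{u}} {E : X.Modules} (u : E ⟶ Coh.structureModule X)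

theorem koszulRegular (hE : FlatMod.IsFinLocFree E)
    (hu : ∀ x : X, ∃ U : X.affineOpens, x ∈ U.1 ∧
      ∃ (n : ℕ) (b : Module.Basis (Fin n) Γ(X, U.1) (E.val.obj (op U.1))),
        LCI.IsKoszulRegularSeq Γ(X, U.1) (List.ofFn fun k => ((u.val.app (op U.1)).hom (b k) : Γ(X, U.1))))
    (J : X.IdealSheafData) (hJ : ∀ U : X.affineOpens, J.ideal U = @Ideal.span Γ(X, U.1) _
      (Set.range fun s : E.val.obj (op U.1) => ((u.val.app (op U.1)).hom s : Γ(X, U.1))))
    (π : P ⟶ X) (O1 : P.Modules) (q : (Scheme.Modules.pullback π).obj E ⟶ O1) (hP : KRR.IsProjBundle π E O1 q)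
    (f : X' ⟶ X) (hf : BlowUp.IsBlowUp f J) (j : X' ⟶ P) (hjπ : j ≫ π = f)
    (e : (Scheme.Modules.pullback j).obj O1 ≅ ClSub.idealMod (BlowUp.exceptional f J))
    (hcomp : (Scheme.Modules.pullbackCongr hjπ).inv.app E ≫ (Scheme.Modules.pullbackComp j π).inv.app E ≫
        (Scheme.Modules.pullback j).map q ≫ e.hom ≫ ClSub.idealModι (BlowUp.exceptional f J) =
      (Scheme.Modules.pullback f).map u ≫
        ((Scheme.Modules.pullbackPushforwardAdjunction f).homEquiv _ _).symm
          (SheafOfModules.unitToPushforwardObjUnit f.toRingCatSheafHom)) :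
    IsClosedImmersion j ∧ RegImm.IsRegularImmersion .koszul j := by
  subst hjπ
  haveI := hP.epi
  haveI : Coh.IsQCoh E := FinLFAnn.isQCoh_of_isFinLocFree hE
  have hloc : ∀ y : P, ∃ D : P.affineOpens, y ∈ D.1 ∧ IsClosedImmersion (j ∣_ D.1) ∧
      ∃ rs : List Γ(P, D.1), LCI.IsKoszulRegularSeq Γ(P, D.1) rs ∧
        RingHom.ker (j.app D.1).hom = Ideal.ofList rs := by
    intro y
    obtain ⟨⟨U, hU⟩, hyU, m, b, hb⟩ := hu (π y)
    obtain ⟨φ⟩ := OmegaAffLib.nonempty_restrict_iso_freeMod hU E b
    cases m with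
    | zero =>
      obtain ⟨k, -⟩ := CycPBLib.exists_genAt_eSec (q := q) φ ((CohCmpLib.invertible_iff_rank_one O1).2 hP.invertible) hyU
      exact k.elim0
    | succ n =>
      obtain ⟨D, hD, hc, rs, -, hrs⟩ := local_main u q j _ e hcomp hP J hf hU φ
        (isExactK_bas u b φ (KoszDetLib.isExactK_of_isKoszulRegularSeq _ hb))
        (ideal_eq_span_bas u J hU φ (hJ ⟨U, hU⟩)) hyU
      exact ⟨D, hD, hc, rs, hrs⟩
  choose D hyD hcl rs hK hker using hloc
  haveI : IsClosedImmersion j := by
    refine (IsZariskiLocalAtTarget.iff_of_iSup_eq_top (P := @IsClosedImmersion) (fun y => (D y).1)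
      (top_le_iff.mp fun y _ => Opens.mem_iSup.mpr ⟨y, hyD y⟩)).mpr hcl
  exact ⟨inferInstance, inferInstance, fun z => ⟨D (j z), hyD _, hcl _, rs _, hK _, hker _⟩⟩

end BlowProjLib

end
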