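import Groth.Agent.CycPBLib.UnivCharts
import Groth.Agent.AVThetaLib.DescLineGlobal
import Groth.Agent.KRLib.FF
import Groth.Prelude.Def_ClSub2
import Groth.Prelude.Def_BlowUp2

/-!
# The functions of a blow-up defined by the sections of a projective bundle
-/

set_option autoImplicit false
set_option backward.isDefEq.respectTransparency false
set_option backward.isDefEq.respectTransparency.types false
set_option linter.style.haveILetI false
set_option linter.unusedSectionVars false

universe u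

open AlgebraicGeometry CategoryTheory CategoryTheory.Limits Opposite TopologicalSpace
open AmpleLib (res GenOn GenAt)
open KFlatLib (pb puSec)

noncomputable section

namespace BlowProjLib

variable {X X' P : Scheme.{u}} {E : X.Modules} (u : E ⟶ Coh.structureModule X) {π : P ⟶ X} {O1 : P.Modules}
  (q : pb π E ⟶ O1) (j : X' ⟶ P) (L : X'.IdealSheafData) (e : pb j O1 ≅ ClSub.idealMod L)
  (hcomp : (Scheme.Modules.pullbackCongr (rfl : j ≫ π = j ≫ π)).inv.app E ≫
      (Scheme.Modules.pullbackComp j π).inv.app E ≫ (Scheme.Modules.pullback j).map q ≫ e.hom ≫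
        ClSub.idealModι L =
    (Scheme.Modules.pullback (j ≫ π)).map u ≫
      ((Scheme.Modules.pullbackPushforwardAdjunction (j ≫ π)).homEquiv _ _).symm
        (SheafOfModules.unitToPushforwardObjUnit (j ≫ π).toRingCatSheafHom))

include hcomp in
theorem app_ι {U : X.Opens} (m : Γ(E, U)) :
    (ClSub.idealModι L).app (j ⁻¹ᵁ (π ⁻¹ᵁ U)) (e.hom.app _ (puSec j (q.app (π ⁻¹ᵁ U) (puSec π m)))) =
      (j ≫ π).app U (show Γ(X, U) from u.app U m) := by
  have h1 := CycPBLib.comp_apply_puSec q (rfl : j ≫ π = j ≫ π) (e.hom ≫ ClSub.idealModι L) m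
  rw [hcomp] at h1
  refine Eq.trans ?_ ((congr($((Coh.structureModule X').presheaf.map_id _) _)).symm.trans (h1.symm.trans ?_))
  · rfl
  · show (((Scheme.Modules.pullbackPushforwardAdjunction (j ≫ π)).homEquiv _ _).symm
      (SheafOfModules.unitToPushforwardObjUnit (j ≫ π).toRingCatSheafHom)).app ((j ≫ π) ⁻¹ᵁ U)
        (((Scheme.Modules.pullback (j ≫ π)).map u).app ((j ≫ π) ⁻¹ᵁ U) (puSec (j ≫ π) m)) = _
    rw [KFlatLib.puSec_natural (j ≫ π) u m]
    erw [AVThetaLib.puSec_adjunct]
    rfl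

include hcomp in
theorem coord_eq {U : X.Opens} (m₁ m₂ : Γ(E, U)) {D : P.Opens} (hD : D ≤ π ⁻¹ᵁ U) (t : Γ(P, D))
    (h : res O1 hD (q.app (π ⁻¹ᵁ U) (puSec π m₁)) = t • res O1 hD (q.app (π ⁻¹ᵁ U) (puSec π m₂))) :
    (j ≫ π).appLE U (j ⁻¹ᵁ D) (j.preimage_mono hD) (show Γ(X, U) from u.app U m₁) =
      j.app D t * (j ≫ π).appLE U (j ⁻¹ᵁ D) (j.preimage_mono hD) (show Γ(X, U) from u.app U m₂) := by
  have key : ∀ m : Γ(E, U), (ClSub.idealModι L).app (j ⁻¹ᵁ D)
      (e.hom.app (j ⁻¹ᵁ D) (puSec j (res O1 hD (q.app (π ⁻¹ᵁ U) (puSec π m))))) =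
      (show Γ(Coh.structureModule X', j ⁻¹ᵁ D) from
        (j ≫ π).appLE U (j ⁻¹ᵁ D) (j.preimage_mono hD) (show Γ(X, U) from u.app U m)) := by
    intro m
    rw [TwistLib.puSec_res j hD]
    refine (congrArg ((ClSub.idealModι L).app (j ⁻¹ᵁ D))
      (QCohLib.app_map e.hom (homOfLE (j.preimage_mono hD)) _)).trans ?_
    refine (QCohLib.app_map (ClSub.idealModι L) (homOfLE (j.preimage_mono hD)) _).trans ?_
    rw [app_ι u q j L e hcomp m]
    rfl
  have h1 := key m₁
  rw [h, TwistLib.puSec_smul, QCohLib.app_smul, QCohLib.app_smul, key m₂] at h1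
  exact h1.symm

/-- The basis of sections of a trivialised module. -/
theorem exists_basis_bas {N : ℕ} {U : X.Opens} (φ : E.restrict U.ι ≅ FlatMod.freeMod (↑U) N) :
    ∃ B : Module.Basis (Fin N) Γ(X, U) Γ(E, U), ∀ k, B k = CycPBLib.bas φ k := by
  classical
  have hle : U ≤ CycPBLib.inU U U := CycPBLib.le_inU le_rfl le_rfl
  have hge : CycPBLib.inU U U ≤ U := CycPBLib.inU_le U
  let ρ : Γ(X, CycPBLib.inU U U) →+* Γ(X, U) := (X.presheaf.map (homOfLE hle).op).hom
  have hρ : ∀ r : Γ(X, U), ρ (X.presheaf.map (homOfLE hge).op r) = r := fun r => by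
    show (X.presheaf.map (homOfLE hge).op ≫ X.presheaf.map (homOfLE hle).op) r = r
    rw [← X.presheaf.map_comp]
    exact congr($(X.presheaf.map_id _) r)
  have hres : ∀ s : Γ(E, U), res E hle (res E hge s) = s := fun s => by
    rw [AmpleLib.res_res, AmpleLib.res_refl]
  let L : Γ(E, U) →ₗ[Γ(X, U)] (Fin N → Γ(X, U)) :=
    { toFun := fun s k => ρ (CycPBLib.crd φ U s k)
      map_add' := fun a b => funext fun k =>
        (congrArg ρ ((CycPBLib.crdHom φ U k).map_add a b)).trans (map_add ρ _ _)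
      map_smul' := fun r a => funext fun k => by
        show ρ (CycPBLib.crd φ U (r • a) k) = r * ρ (CycPBLib.crd φ U a k)
        rw [CycPBLib.crd_smul, map_mul, hρ] }
  have hsum : ∀ s, s = ∑ k, L s k • CycPBLib.bas φ k := by
    intro s
    conv_lhs => rw [← hres s]
    have h := CycPBLib.sum_crd φ U s hge
    refine (congrArg (res E hle) h).trans ((map_sum (E.presheaf.map (homOfLE hle).op).hom _ _).trans
      (Finset.sum_congr rfl fun k _ => ?_))
    exact (AmpleLib.res_smul E hle _ _).trans (congrArg (ρ (CycPBLib.crd φ U s k) • ·) (hres _))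
  have hδ : ∀ k, L (CycPBLib.bas φ k) = Pi.single k 1 := fun k => funext fun l => by
    show ρ (CycPBLib.crd φ U (CycPBLib.bas φ k) l) = _
    rw [CycPBLib.crd_bas, Pi.single_apply]
    split_ifs with h h' h'
    · exact map_one ρ
    · exact absurd h.symm h'
    · exact absurd h'.symm h
    · exact map_zero ρ
  have hinj : Function.Injective L := fun a b h => by rw [hsum a, hsum b, h]
  have hsurj : Function.Surjective L := fun c => ⟨∑ k, c k • CycPBLib.bas φ k, by
    rw [map_sum]
    funext l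
    simp [hδ, Pi.single_apply]⟩
  refine ⟨Module.Basis.ofEquivFun (LinearEquiv.ofBijective L ⟨hinj, hsurj⟩), fun k => ?_⟩
  rw [Module.Basis.coe_ofEquivFun]
  exact (LinearEquiv.symm_apply_eq _).mpr (hδ k).symm

end BlowProjLib

end
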